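import Cfsg.Agent.H13.Correspondence
import Cfsg.Agent.H13.Gallagher
import Cfsg.Agent.H14.Basic
import Cfsg.Agent.H12.Transport
import Cfsg.Agent.H12.Linear

/-!
Characters of a subgroup whose degree is the largest degree of the whole group.
-/

set_option autoImplicit false
set_option linter.unusedSectionVars false

open Cfsg
open scoped ComplexConjugate

namespace H28.ChrAb

universe u

variable {G : Type u} [Group G] [Finite G]

/-- Every irreducible character of a subgroup lies under one of the group. -/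
theorem exists_above [Fintype G] (H : Subgroup G) [Fintype H] (φ : IrrCharacter H) :
    ∃ χ : IrrCharacter G, classInner (fun h : H => (χ : G → ℂ) h) (φ : H → ℂ) ≠ 0 := by
  by_contra h0
  simp only [not_exists, not_not] at h0
  have h := congrFun (H12.eq_zero_of_classInner_irr_eq_zero
    (H13.indFun_isClassFunction H (φ : H → ℂ)) fun χ => by
      rw [H13.classInner_indFun_left H _ (H12.irr_isClassFunction χ), ← H12.conj_classInner,
        h0 χ, map_zero]) 1
  rw [H13.indFun_apply_one, Pi.zero_apply, mul_eq_zero] at h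
  rcases h with h | h
  · exact Subgroup.index_ne_zero_of_finite (Nat.cast_eq_zero.1 h)
  · exact H12.irr_apply_one_ne_zero φ h

/-- A constituent of a restriction with the largest possible degree is the whole restriction. -/
theorem res_eq [Fintype G] {H : Subgroup G} [Fintype H] {φ : IrrCharacter H} {χ : IrrCharacter G}
    (hne : classInner (fun h : H => (χ : G → ℂ) h) (φ : H → ℂ) ≠ 0)
    (hd : H12.degree (χ : G → ℂ) ≤ H12.degree (φ : H → ℂ)) :
    (fun h : H => (χ : G → ℂ) h) = φ := by
  have hsub := H13.isCharacter_sub_irr (H12.IsCharacter.res (H12.isCharacter_irr χ) H) φ.2 hne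
  obtain ⟨n, hn⟩ := H12.IsCharacter.apply_one hsub
  refine sub_eq_zero.1 (H13.eq_zero_of_apply_one hsub ?_)
  rw [hn]
  simp only [Pi.sub_apply, OneMemClass.coe_one, H12.irr_apply_one] at hn
  have h1 : H12.degree (χ : G → ℂ) = n + H12.degree (φ : H → ℂ) := by
    have := sub_eq_iff_eq_add.1 hn
    exact_mod_cast this
  rw [show n = 0 by omega, Nat.cast_zero]

/-- If a subgroup has an irreducible character of the largest degree of the group, that character
vanishes outside the core of the subgroup. -/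
theorem vanish_off_core [Fintype G] (H : Subgroup G) [Fintype H] (φ : IrrCharacter H) {b : ℕ}
    (hb : ∀ χ : IrrCharacter G, H12.degree (χ : G → ℂ) ≤ b) (hφ : H12.degree (φ : H → ℂ) = b)
    (h : H) (hh : (h : G) ∉ H.normalCore) : (φ : H → ℂ) h = 0 := by
  classical
  obtain ⟨χ₀, hχ₀⟩ := exists_above H φ
  have h0 := res_eq hχ₀ (by rw [hφ]; exact hb χ₀)
  set π : G → ℂ := indFun H (fun _ => (1 : ℂ)) with hπ
  have hf : indFun H (φ : H → ℂ) = π * (χ₀ : G → ℂ) := by
    have := H12.indFun_mul_res H (fun _ => (1 : ℂ)) (H12.irr_isClassFunction χ₀)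
    simp only [one_mul] at this
    rwa [h0] at this
  obtain ⟨m, hm⟩ := H12.IsCharacter.exists_mult
    (H13.isCharacter_indFun H (H12.isCharacter_irr φ))
  have hres : ∀ ψ : IrrCharacter G, m ψ ≠ 0 → (fun x : H => (ψ : G → ℂ) x) = φ := by
    intro ψ hψ
    refine res_eq ?_ (by rw [hφ]; exact hb ψ)
    intro hc
    have h1 := H12.classInner_sum_smul_irr (fun φ => (m φ : ℂ)) ψ
    rw [← hm, H13.classInner_indFun_left H _ (H12.irr_isClassFunction ψ), ← H12.conj_classInner,
      hc, map_zero] at h1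
    exact hψ (Nat.cast_eq_zero.1 h1.symm)
  set c : ℂ := ∑ ψ : IrrCharacter G, (m ψ : ℂ)
  have hval : ∀ x : H, π x * (φ : H → ℂ) x = c * (φ : H → ℂ) x := by
    intro x
    have h1 := congrFun hm (x : G)
    rw [hf, Pi.mul_apply, Finset.sum_apply] at h1
    rw [show (φ : H → ℂ) x = (χ₀ : G → ℂ) (x : G) from (congrFun h0 x).symm, h1, Finset.sum_mul]
    refine Finset.sum_congr rfl fun ψ _ => ?_
    rw [Pi.smul_apply, smul_eq_mul]
    by_cases hψ : m ψ = 0
    · simp [hψ]
    · have e1 := congrFun (hres ψ hψ) x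
      have e2 := congrFun h0 x
      rw [e1, e2]
  have hc : c = (H.index : ℂ) := by
    have h1 := hval 1
    rw [OneMemClass.coe_one, hπ, H13.indFun_apply_one, mul_one] at h1
    exact (mul_right_cancel₀ (H12.irr_apply_one_ne_zero φ) h1).symm
  by_contra hne
  apply hh
  have h1 := mul_right_cancel₀ hne (hval h)
  rw [hc, hπ, H14.indFun_one_eq_fixed, Nat.cast_inj, Subgroup.index] at h1
  have hall : ∀ q : G ⧸ H, (h : G) • q = q := by
    have h2 : {q : G ⧸ H | (h : G) • q = q} = Set.univ := by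
      refine Set.eq_of_subset_of_ncard_le (Set.subset_univ _) ?_ (Set.toFinite _)
      rw [Set.ncard_univ, ← Nat.card_coe_set_eq]
      exact h1.ge
    exact fun q => Set.eq_univ_iff_forall.1 h2 q
  rw [Subgroup.normalCore_eq_ker, MonoidHom.mem_ker]
  exact Equiv.Perm.ext fun q => hall q

/-- A character vanishing off a subgroup: the index is at most the degree squared. -/
theorem index_le_sq (L : Subgroup G) (φ : IrrCharacter G)
    (h : ∀ g : G, g ∉ L → (φ : G → ℂ) g = 0) : L.index ≤ H12.degree (φ : G → ℂ) ^ 2 := by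
  classical
  haveI := Fintype.ofFinite G
  have h1 := H12.classInner_irr_self φ
  rw [H12.classInner_def, inv_mul_eq_one₀ (Nat.cast_ne_zero.2 Nat.card_pos.ne')] at h1
  simp only [Complex.mul_conj] at h1
  have h2 : ∑ g : G, Complex.normSq ((φ : G → ℂ) g) = (Nat.card G : ℝ) := by exact_mod_cast h1.symm
  have h3 : ∑ g : G, Complex.normSq ((φ : G → ℂ) g) ≤
      ∑ g ∈ Finset.univ.filter (· ∈ L), (H12.degree (φ : G → ℂ) : ℝ) ^ 2 := by
    rw [Finset.sum_filter]
    refine Finset.sum_le_sum fun g _ => ?_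
    split_ifs with hg
    · rw [Complex.normSq_eq_norm_sq]
      exact pow_le_pow_left₀ (norm_nonneg _) (H12.IsCharacter.norm_le (H12.isCharacter_irr φ) g) 2
    · rw [h g hg, map_zero]
  rw [h2, Finset.sum_const, nsmul_eq_mul, ← Fintype.card_subtype, ← Nat.card_eq_fintype_card] at h3
  have h4 : Nat.card G ≤ Nat.card L * H12.degree (φ : G → ℂ) ^ 2 := by exact_mod_cast h3
  rw [← L.card_mul_index] at h4
  exact Nat.le_of_mul_le_mul_left h4 Nat.card_pos

/-- A character vanishing off a normal subgroup: the index divides the degree squared. -/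
theorem index_dvd_sq (L : Subgroup G) [L.Normal] (φ : IrrCharacter G)
    (h : ∀ g : G, g ∉ L → (φ : G → ℂ) g = 0) : L.index ∣ H12.degree (φ : G → ℂ) ^ 2 := by
  classical
  haveI := Fintype.ofFinite G
  haveI := Fintype.ofFinite L
  obtain ⟨θ, hθ⟩ := H13.exists_constituent L (H12.isCharacter_irr φ) (H12.irr_ne_zero φ)
  obtain ⟨c, hc⟩ := H12.IsCharacter.classInner_nat (H12.IsCharacter.res (H12.isCharacter_irr φ) L)
    (H12.isCharacter_irr θ)
  let s : Finset (IrrCharacter L) :=
    Finset.univ.filter fun ψ => ∃ x, H13.twist L x (θ : L → ℂ) = ψ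
  have hres := H13.clifford_res L φ.2 θ.2 hθ s (fun ψ => by simp [s])
  have hs1 : ∀ ψ ∈ s, (ψ : L → ℂ) 1 = (θ : L → ℂ) 1 := by
    intro ψ hψ
    obtain ⟨x, hx⟩ := (Finset.mem_filter.1 hψ).2
    rw [← hx]
    exact congrArg (θ : L → ℂ) (Subtype.ext (by simp))
  have hd : H12.degree (φ : G → ℂ) = c * (s.card * H12.degree (θ : L → ℂ)) := by
    have h1 := congrFun hres 1
    rw [Pi.smul_apply, Finset.sum_apply, Finset.sum_congr rfl hs1] at h1
    simp only [OneMemClass.coe_one, smul_eq_mul, hc, Finset.sum_const, nsmul_eq_mul,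
      H12.irr_apply_one] at h1
    exact_mod_cast h1
  have hin : classInner (fun n : L => (φ : G → ℂ) n) (fun n : L => (φ : G → ℂ) n)
      = (L.index : ℂ) := by
    have h1 := H12.classInner_irr_self φ
    rw [H12.classInner_def, inv_mul_eq_one₀ (Nat.cast_ne_zero.2 Nat.card_pos.ne')] at h1
    have h2 : ∑ g : G, (φ : G → ℂ) g * conj ((φ : G → ℂ) g)
        = ∑ n : L, (φ : G → ℂ) n * conj ((φ : G → ℂ) n) :=
      (Fintype.sum_of_injective _ L.subtype_injective _ _
        (fun g hg => by rw [h g (fun hgL => hg ⟨⟨g, hgL⟩, rfl⟩), zero_mul]) (fun n => rfl)).symm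
    rw [H12.classInner_def, ← h2, ← h1, ← L.card_mul_index, Nat.cast_mul, ← mul_assoc,
      inv_mul_cancel₀ (Nat.cast_ne_zero.2 Nat.card_pos.ne'), one_mul]
  have hin2 : classInner (fun n : L => (φ : G → ℂ) n) (fun n : L => (φ : G → ℂ) n)
      = ((c * c * s.card : ℕ) : ℂ) := by
    have e : ∀ ψ ∈ s, classInner (fun n : L => (φ : G → ℂ) n) (ψ : L → ℂ) = c := by
      intro ψ hψ
      obtain ⟨x, hx⟩ := (Finset.mem_filter.1 hψ).2
      rw [← hx, H13.classInner_res_twist L (H12.irr_isClassFunction φ), hc]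
    conv_lhs => arg 2; rw [hres]
    rw [H12.classInner_smul_right, H12.classInner_sum_right, Finset.sum_congr rfl e,
      Finset.sum_const, nsmul_eq_mul, hc, Complex.conj_natCast]
    push_cast
    ring
  rw [hin, Nat.cast_inj] at hin2
  rw [hin2, hd]
  exact ⟨s.card * H12.degree (θ : L → ℂ) ^ 2, by ring⟩

theorem eq_one_of_linear (hlin : ∀ χ : IrrCharacter G, H12.degree (χ : G → ℂ) ≤ 1) :
    commutator G = ⊥ := by
  haveI := Fintype.ofFinite G
  refine (Subgroup.eq_bot_iff_forall _).2 fun g hg => ?_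
  refine isConj_one_left.1 ((H12.isConj_iff_irr g 1).2 fun χ => ?_)
  have h1 : (χ : G → ℂ) 1 = 1 := by
    rw [H12.irr_apply_one, le_antisymm (hlin χ) (H12.irr_degree_pos χ), Nat.cast_one]
  obtain ⟨f, hf⟩ := H12.exists_monoidHom_of_apply_one_eq_one (H12.isCharacter_irr χ) h1
  rw [h1, ← hf]
  simp [MonoidHom.mem_ker.1 (Abelianization.commutator_subset_ker f hg)]

/-- A normal subgroup with non-abelian quotient has all degrees at most half of the largest. -/
theorem two_mul_degree_le (K : Subgroup G) [K.Normal] (hK : commutator (G ⧸ K) ≠ ⊥) {b : ℕ}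
    (hb : ∀ χ : IrrCharacter G, H12.degree (χ : G → ℂ) ≤ b) (ψ : IrrCharacter K) :
    2 * H12.degree (ψ : K → ℂ) ≤ b := by
  classical
  haveI := Fintype.ofFinite G
  haveI := Fintype.ofFinite K
  haveI := Fintype.ofFinite (G ⧸ K)
  by_contra hlt
  obtain ⟨χ, hχ⟩ := exists_above K ψ
  obtain ⟨c, hc⟩ := H12.IsCharacter.classInner_nat (H12.IsCharacter.res (H12.isCharacter_irr χ) K)
    (H12.isCharacter_irr ψ)
  let s : Finset (IrrCharacter K) :=
    Finset.univ.filter fun φ => ∃ x, H13.twist K x (ψ : K → ℂ) = φ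
  have hres := H13.clifford_res K χ.2 ψ.2 hχ s (fun φ => by simp [s])
  have hd : H12.degree (χ : G → ℂ) = c * (s.card * H12.degree (ψ : K → ℂ)) := by
    have h1 := congrFun hres 1
    have hs1 : ∀ φ ∈ s, (φ : K → ℂ) 1 = (ψ : K → ℂ) 1 := by
      intro φ hφ
      obtain ⟨x, hx⟩ := (Finset.mem_filter.1 hφ).2
      rw [← hx]
      exact congrArg (ψ : K → ℂ) (Subtype.ext (by simp))
    rw [Pi.smul_apply, Finset.sum_apply, Finset.sum_congr rfl hs1] at h1
    simp only [OneMemClass.coe_one, smul_eq_mul, hc, Finset.sum_const, nsmul_eq_mul,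
      H12.irr_apply_one] at h1
    exact_mod_cast h1
  have hχ' : (fun h : K => (χ : G → ℂ) h) = ψ := by
    refine res_eq hχ ?_
    rw [hd]
    have hle := hb χ
    rw [hd] at hle
    rcases Nat.lt_or_ge (c * s.card) 2 with h | h
    · nlinarith
    · nlinarith
  obtain ⟨β, hβ⟩ : ∃ β : IrrCharacter (G ⧸ K), 1 < H12.degree (β : G ⧸ K → ℂ) := by
    by_contra h
    simp only [not_exists, not_lt] at h
    exact hK (eq_one_of_linear h)
  have hirr := H13.gallagher_isIrr K (H12.isCharacter_irr χ) (by rw [hχ']; exact ψ.2) β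
  have h1 := hb ⟨_, hirr⟩
  have h2 : H12.degree ((H13.inflateIrr K β : G → ℂ) * (χ : G → ℂ))
      = H12.degree (β : G ⧸ K → ℂ) * H12.degree (χ : G → ℂ) := by
    have h3 := H12.irr_apply_one ⟨_, hirr⟩
    simp only [Pi.mul_apply, H13.inflateIrr_apply, QuotientGroup.mk_one, H12.irr_apply_one] at h3
    exact_mod_cast h3.symm
  have h4 : H12.degree (χ : G → ℂ) = H12.degree (ψ : K → ℂ) := by
    have := congrFun hχ' 1
    simp only [OneMemClass.coe_one, H12.irr_apply_one] at this
    exact_mod_cast this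
  simp only at h1
  rw [h2, h4] at h1
  nlinarith

end H28.ChrAb
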