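import Cfsg.Agent.H19.PrimeDegrees
import Cfsg.Agent.H16.OddOrder

/-!
A non-abelian finite simple group has an irreducible character of degree at least five.
-/

set_option autoImplicit false
set_option linter.unusedSectionVars false

open Cfsg
open scoped ComplexConjugate

namespace H28.ChrAb

universe u

variable {S : Type u} [Group S] [Fintype S] [IsSimpleGroup S]

/-- The value at an involution of a nontrivial character of degree at most four. -/
theorem value_involution (hna : ¬ IsMulCommutative S) (χ : IrrCharacter S) (hχ : χ ≠ H12.oneIrr S)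
    (hd : H12.degree (χ : S → ℂ) ≤ 4) {t : S} (ht : orderOf t = 2) :
    (χ : S → ℂ) t * conj ((χ : S → ℂ) 1) = 0 ∨ (χ : S → ℂ) t * conj ((χ : S → ℂ) 1) = -3 := by
  classical
  have ht1 : t ≠ 1 := fun h => by rw [h, orderOf_one] at ht; omega
  obtain ⟨n, ρ, hρ, hρχ⟩ := χ.2
  have hdn : H12.degree (χ : S → ℂ) = n := by
    rw [← hρχ, H12.degree_character, Module.finrank_fin_fun]
  have hne2 := H19.PrimeDeg.degree_ne_two hna χ hχ
  have hne1 : H12.degree (χ : S → ℂ) ≠ 1 := by
    intro h1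
    obtain ⟨f, hf⟩ := H12.exists_monoidHom_of_apply_one_eq_one (H12.isCharacter_irr χ)
      (by rw [H12.irr_apply_one, h1, Nat.cast_one])
    have hk : t ∈ f.ker := Abelianization.commutator_subset_ker f
      ((H19.PrimeDeg.commutator_top hna).symm ▸ Subgroup.mem_top t)
    apply ht1
    refine H19.PrimeDeg.eq_one_of_eq_degree χ hχ ?_
    rw [← hf]
    simp [MonoidHom.mem_ker.1 hk]
  have hne0 := H12.irr_degree_pos χ
  have ht2 : (ρ t) ^ 2 = 1 := by
    rw [← map_pow, show t ^ 2 = 1 from ht ▸ pow_orderOf_eq_one t, map_one]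
  obtain ⟨B, μ, hμ⟩ := H12.exists_eigenbasis two_ne_zero ht2
  have hdet : ∏ i, μ i = 1 := by
    have hk : t ∈ (H14.detHom ρ).ker := (Abelianization.commutator_subset_ker (H14.detHom ρ))
      ((H19.PrimeDeg.commutator_top hna).symm ▸ Subgroup.mem_top t)
    have h1 := congrArg Units.val (MonoidHom.mem_ker.mp hk)
    rw [H14.detHom_apply, Units.val_one, ← LinearMap.det_toMatrix B] at h1
    rw [← h1, show LinearMap.toMatrix B B (ρ t) = Matrix.diagonal μ from ?_, Matrix.det_diagonal]
    ext i j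
    rw [LinearMap.toMatrix_apply, (hμ j).1]
    by_cases hij : i = j
    · subst hij; simp
    · simp [hij]
  have htr : (χ : S → ℂ) t = ∑ i, μ i := by
    rw [← hρχ]
    show LinearMap.trace ℂ _ (ρ t) = _
    rw [LinearMap.trace_eq_matrix_trace ℂ B, Matrix.trace]
    refine Finset.sum_congr rfl fun i _ => ?_
    simp [LinearMap.toMatrix_apply, (hμ i).1]
  have hpm : ∀ i, μ i = 1 ∨ μ i = -1 := fun i => sq_eq_one_iff.1 (hμ i).2
  have hnorm : ‖(χ : S → ℂ) t‖ ≠ (H12.degree (χ : S → ℂ) : ℝ) := fun h =>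
    ht1 (H19.PrimeDeg.eq_one_of_norm_eq hna χ hχ h)
  rw [H12.irr_apply_one, Complex.conj_natCast]
  have hfr : Module.finrank ℂ (Fin n → ℂ) = n := Module.finrank_fin_fun ℂ
  rw [hdn] at hnorm hd hne1 hne2 hne0 ⊢
  let ν : Fin n → ℂ := fun i => μ (Fin.cast hfr.symm i)
  have e1 : ∏ i, ν i = 1 := by
    rw [← hdet]
    exact Fintype.prod_equiv (finCongr hfr.symm) _ _ fun i => rfl
  have e2 : (χ : S → ℂ) t = ∑ i, ν i := by
    rw [htr]
    exact (Fintype.sum_equiv (finCongr hfr.symm) _ _ fun i => rfl).symm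
  have hν : ∀ i, ν i = 1 ∨ ν i = -1 := fun i => hpm _
  clear_value ν
  rw [e2] at hnorm ⊢
  obtain rfl | rfl : n = 3 ∨ n = 4 := by omega
  · simp only [Fin.prod_univ_three] at e1
    simp only [Fin.sum_univ_three] at hnorm ⊢
    rcases hν 0 with h0 | h0 <;> rcases hν 1 with h1 | h1 <;> rcases hν 2 with h2 | h2 <;>
      rw [h0, h1, h2] at e1 hnorm ⊢ <;>
      first | (norm_num at e1; done) | (norm_num at hnorm; done) | norm_num
  · simp only [Fin.prod_univ_four] at e1
    simp only [Fin.sum_univ_four] at hnorm ⊢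
    rcases hν 0 with h0 | h0 <;> rcases hν 1 with h1 | h1 <;> rcases hν 2 with h2 | h2 <;>
      rcases hν 3 with h3 | h3 <;> rw [h0, h1, h2, h3] at e1 hnorm ⊢ <;>
      first | (norm_num at e1; done) | (norm_num at hnorm; done) | norm_num

theorem exists_degree_five (hna : ¬ IsMulCommutative S) :
    ∃ χ : IrrCharacter S, 5 ≤ H12.degree (χ : S → ℂ) := by
  classical
  by_contra h
  simp only [not_exists, not_le] at h
  have heven : 2 ∣ Nat.card S := by
    by_contra h2
    have hsol := H16.FT.oddOrder (Nat.odd_iff.2 (by omega : Nat.card S % 2 = 1))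
    exact hna ⟨⟨IsSimpleGroup.comm_iff_isSolvable.2 hsol⟩⟩
  haveI : Fact (Nat.Prime 2) := ⟨Nat.prime_two⟩
  obtain ⟨t, ht⟩ := exists_prime_orderOf_dvd_card' (G := S) 2 heven
  have hcol := H12.column_orthogonality t (1 : S)
  rw [if_neg (fun h1 => by rw [isConj_one_left.mp h1, orderOf_one] at ht; omega),
    ← Finset.add_sum_erase _ _ (Finset.mem_univ (H12.oneIrr S)), H12.oneIrr_apply,
    H12.oneIrr_apply, map_one, one_mul] at hcol
  have hval : ∀ χ ∈ Finset.univ.erase (H12.oneIrr S), (χ : S → ℂ) t * conj ((χ : S → ℂ) 1) =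
      -3 * (if (χ : S → ℂ) t * conj ((χ : S → ℂ) 1) = 0 then (0 : ℕ) else 1 : ℕ) := by
    intro χ hχ
    rcases value_involution hna χ (Finset.ne_of_mem_erase hχ) (by have := h χ; omega) ht with e | e
    · rw [if_pos e, e]; simp
    · rw [if_neg (by rw [e]; norm_num), e]; simp
  rw [Finset.sum_congr rfl hval, ← Finset.mul_sum, ← Nat.cast_sum] at hcol
  generalize (∑ x ∈ _, _ : ℕ) = a at hcol
  have h3 : ((3 * a : ℕ) : ℂ) = ((1 : ℕ) : ℂ) := by
    push_cast
    linear_combination -hcol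
  rw [Nat.cast_inj] at h3
  omega

end H28.ChrAb
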