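import Cfsg.Agent.H28.ChrAbelian.Basic
import Cfsg.Agent.H28.ChrAbelian.SimpleDegree
import Cfsg.Agent.H4.ThreeDegrees.Tools
import Mathlib.GroupTheory.FiniteAbelian.Duality
import Mathlib.RingTheory.RootsOfUnity.AlgebraicallyClosed

/-!
A non-abelian group has a subgroup of small index all of whose degrees are smaller.
-/

set_option autoImplicit false
set_option linter.unusedSectionVars false

open Cfsg
open scoped ComplexConjugate commutatorElement

namespace H28.ChrAb

universe u

variable {G : Type u} [Group G] [Finite G]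

/-- A subgroup of small index with smaller degrees. -/
def Good (G : Type u) [Group G] (b : ℕ) : Prop :=
  ∃ H : Subgroup G, ∃ m : ℕ, m < b ∧ (∀ φ : IrrCharacter H, H12.degree (φ : H → ℂ) ≤ m) ∧
    H.index * m.factorial ^ 2 ≤ b.factorial ^ 2

theorem good_of_index {b : ℕ} (hb0 : 0 < b) (H : Subgroup G) (hi : H.index ≤ b ^ 2)
    (hd : ∀ φ : IrrCharacter H, H12.degree (φ : H → ℂ) < b) : Good G b := by
  refine ⟨H, b - 1, by omega, fun φ => by have := hd φ; omega, ?_⟩
  rw [← Nat.mul_factorial_pred hb0.ne', mul_pow]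
  exact Nat.mul_le_mul_right _ hi

theorem degree_le_above [Fintype G] (H : Subgroup G) [Fintype H] {φ : IrrCharacter H}
    {χ : IrrCharacter G} (hne : classInner (fun h : H => (χ : G → ℂ) h) (φ : H → ℂ) ≠ 0) :
    H12.degree (φ : H → ℂ) ≤ H12.degree (χ : G → ℂ) := by
  by_contra hlt
  have h := congrFun (res_eq hne (by omega)) 1
  simp only [OneMemClass.coe_one, H12.irr_apply_one, Nat.cast_inj] at h
  omega

theorem degree_inflate (K : Subgroup G) [K.Normal] (β : IrrCharacter (G ⧸ K)) :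
    H12.degree (H13.inflateIrr K β : G → ℂ) = H12.degree (β : G ⧸ K → ℂ) := by
  simp only [H12.degree, H13.inflateIrr_apply, QuotientGroup.mk_one]

theorem exists_top_constituent [Fintype G] {b : ℕ}
    (hb : ∀ χ : IrrCharacter G, H12.degree (χ : G → ℂ) ≤ b) (H : Subgroup G) [Fintype H]
    (φ : IrrCharacter H) (hφ : H12.degree (φ : H → ℂ) = b) :
    ∃ χ : IrrCharacter G, (fun h : H => (χ : G → ℂ) h) = φ := by
  obtain ⟨χ, hχ⟩ := exists_above H φ
  exact ⟨χ, res_eq hχ (by rw [hφ]; exact hb χ)⟩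

theorem exists_top_or_good {b : ℕ} (hb0 : 0 < b)
    (hb : ∀ χ : IrrCharacter G, H12.degree (χ : G → ℂ) ≤ b) (H : Subgroup G)
    (hi : H.index ≤ b ^ 2) : Good G b ∨ ∃ φ : IrrCharacter H, H12.degree (φ : H → ℂ) = b := by
  haveI := Fintype.ofFinite G
  haveI := Fintype.ofFinite H
  by_cases h : ∃ φ : IrrCharacter H, H12.degree (φ : H → ℂ) = b
  · exact Or.inr h
  · refine Or.inl (good_of_index hb0 H hi fun φ => ?_)
    obtain ⟨χ, hχ⟩ := exists_above H φ
    exact lt_of_le_of_ne ((degree_le_above H hχ).trans (hb χ)) fun e => h ⟨φ, e⟩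

section Quotient

variable {K : Subgroup G} [K.Normal] {b : ℕ}

/-- The hypotheses on the quotient: non-abelian, all proper quotients abelian. -/
structure Min (K : Subgroup G) [K.Normal] (b : ℕ) : Prop where
  pos : 0 < b
  deg : ∀ χ : IrrCharacter G, H12.degree (χ : G → ℂ) ≤ b
  ne : commutator (G ⧸ K) ≠ ⊥
  le : ∀ N : Subgroup (G ⧸ K), N.Normal → N ≠ ⊥ → commutator (G ⧸ K) ≤ N

namespace Min

theorem center_eq_bot (h : Min K b) (hc : ¬ commutator (G ⧸ K) ≤ Subgroup.center (G ⧸ K)) :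
    Subgroup.center (G ⧸ K) = ⊥ := by
  by_contra h0
  exact hc (h.le _ inferInstance h0)

theorem faithful (h : Min K b) : ∃ β : IrrCharacter (G ⧸ K), 1 < H12.degree (β : G ⧸ K → ℂ) ∧
    (∀ g, (β : G ⧸ K → ℂ) g = (β : G ⧸ K → ℂ) 1 → g = 1) ∧
    H12.degree (β : G ⧸ K → ℂ) ≤ b := by
  obtain ⟨β, hβ⟩ : ∃ β : IrrCharacter (G ⧸ K), 1 < H12.degree (β : G ⧸ K → ℂ) := by
    by_contra h0
    simp only [not_exists, not_lt] at h0
    exact h.ne (eq_one_of_linear h0)
  refine ⟨β, hβ, fun g hg => ?_, by rw [← degree_inflate]; exact h.deg _⟩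
  by_contra h1
  have hne : H12.charKer (β : G ⧸ K → ℂ) (H12.isCharacter_irr β) ≠ ⊥ := fun e =>
    h1 (Subgroup.mem_bot.1 (e ▸ (H12.mem_charKer _).2 hg))
  have hle := h.le _ (H12.charKer_normal _) hne
  have := H4.ThreeDeg.degree_one_of_kills β fun x hx => (H12.mem_charKer _).1 (hle hx)
  omega

theorem central_case (h : Min K b) (hc : commutator (G ⧸ K) ≤ Subgroup.center (G ⧸ K)) :
    Good G b := by
  classical
  haveI := Fintype.ofFinite G
  haveI := Fintype.ofFinite (G ⧸ K)
  obtain ⟨β, hd1, hfaith, hdb⟩ := h.faithful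
  set d := H12.degree (β : G ⧸ K → ℂ) with hd
  obtain ⟨n, ρ, hρ, hρβ⟩ := β.2
  have hn : n = d := by rw [hd, ← hρβ, H12.degree_character, Module.finrank_fin_fun]
  haveI := hρ
  have hscal : ∀ z ∈ Subgroup.center (G ⧸ K), ∃ c : ℂ,
      ρ z = c • (1 : Module.End ℂ (Fin n → ℂ)) ∧ c * conj c = 1 := by
    intro z hz
    obtain ⟨c, hcz⟩ := H12.exists_scalar_of_commute ρ (ρ z) fun x => by
      rw [← map_mul, ← map_mul, Subgroup.mem_center_iff.1 hz x]
    refine ⟨c, hcz, ?_⟩
    have h1 := H12.rep_pow_orderOf ρ z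
    rw [hcz, smul_pow, one_pow] at h1
    have h2 := congrArg (LinearMap.trace ℂ (Fin n → ℂ)) h1
    rw [map_smul, LinearMap.trace_one, Module.finrank_fin_fun, smul_eq_mul] at h2
    have hn0 : (n : ℂ) ≠ 0 := Nat.cast_ne_zero.2 (by omega)
    have h3 : c ^ orderOf z = 1 := mul_right_cancel₀ hn0 (h2.trans (one_mul _).symm)
    rw [Complex.mul_conj, Complex.normSq_eq_norm_sq,
      H12.norm_eq_one_of_pow_eq_one (orderOf_pos z).ne' h3]
    norm_num
  have hβc : ∀ z ∈ Subgroup.center (G ⧸ K),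
      (β : G ⧸ K → ℂ) z * conj ((β : G ⧸ K → ℂ) z) = (d : ℂ) ^ 2 := by
    intro z hz
    obtain ⟨c, hcz, hc1⟩ := hscal z hz
    have e : (β : G ⧸ K → ℂ) z = c * d := by
      rw [← hρβ]
      show LinearMap.trace ℂ _ (ρ z) = _
      rw [hcz, map_smul, LinearMap.trace_one, Module.finrank_fin_fun, smul_eq_mul, hn]
    rw [e, map_mul, Complex.conj_natCast]
    linear_combination (d : ℂ) ^ 2 * hc1
  have hvan : ∀ x, x ∉ Subgroup.center (G ⧸ K) → (β : G ⧸ K → ℂ) x = 0 := by
    intro x hx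
    rw [Subgroup.mem_center_iff] at hx
    push Not at hx
    obtain ⟨y, hy⟩ := hx
    set w := x⁻¹ * (y * x * y⁻¹) with hw
    have hwM : w ∈ commutator (G ⧸ K) := by
      rw [show w = ⁅x⁻¹, y⁆ by rw [hw, commutatorElement_def]; group, commutator_def]
      exact Subgroup.commutator_mem_commutator (Subgroup.mem_top _) (Subgroup.mem_top _)
    have hw1 : w ≠ 1 := by
      intro e
      apply hy
      rw [hw, inv_mul_eq_one, eq_mul_inv_iff_mul_eq] at e
      exact e.symm
    obtain ⟨c, hcw, -⟩ := hscal w (hc hwM)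
    have hne : c ≠ 1 := by
      intro e
      apply hw1
      refine hfaith w ?_
      rw [← hρβ]
      show LinearMap.trace ℂ _ (ρ w) = LinearMap.trace ℂ _ (ρ 1)
      rw [hcw, e, one_smul, ρ.map_one]
    have h1 : (β : G ⧸ K → ℂ) (y * x * y⁻¹) = c * (β : G ⧸ K → ℂ) x := by
      rw [show y * x * y⁻¹ = x * w by rw [hw]; group, ← hρβ]
      show LinearMap.trace ℂ _ (ρ (x * w)) = c * LinearMap.trace ℂ _ (ρ x)
      rw [map_mul, hcw, mul_smul_comm, mul_one, map_smul, smul_eq_mul]
    rw [H12.irr_isClassFunction β x y] at h1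
    have h2 : (c - 1) * (β : G ⧸ K → ℂ) x = 0 := by linear_combination -h1
    exact (mul_eq_zero.1 h2).resolve_left (sub_ne_zero.2 hne)
  set Z := Subgroup.center (G ⧸ K) with hZ
  have hsum : ∀ (F : G ⧸ K → ℂ), (∀ x, x ∉ Z → F x = 0) → ∑ x, F x = ∑ z : Z, F z := fun F hF =>
    (Fintype.sum_of_injective _ Z.subtype_injective _ _
      (fun x hx => hF x fun hxz => hx ⟨⟨x, hxz⟩, rfl⟩) (fun z => rfl)).symm
  have hidx : (Z.index : ℂ) = (d : ℂ) ^ 2 := by
    have h1 := H12.classInner_irr_self β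
    rw [H12.classInner_def, inv_mul_eq_one₀ (Nat.cast_ne_zero.2 Nat.card_pos.ne'),
      hsum _ (fun x hx => by rw [hvan x hx, zero_mul])] at h1
    rw [Finset.sum_congr rfl (fun (z : Z) _ => hβc _ z.2), Finset.sum_const, Finset.card_univ,
      nsmul_eq_mul, ← Nat.card_eq_fintype_card, ← Z.card_mul_index, Nat.cast_mul] at h1
    exact mul_left_cancel₀ (Nat.cast_ne_zero.2 Nat.card_pos.ne') h1
  set H := Z.comap (QuotientGroup.mk' K) with hH
  haveI : H.Normal := Subgroup.Normal.comap inferInstance _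
  have hHi : H.index = d ^ 2 := by
    rw [hH, Subgroup.index_comap_of_surjective _ (QuotientGroup.mk'_surjective K)]
    exact_mod_cast hidx
  haveI := Fintype.ofFinite H
  rcases exists_top_or_good h.pos h.deg H (by rw [hHi]; exact Nat.pow_le_pow_left hdb 2) with
    hg | ⟨ψ, hψ⟩
  · exact hg
  exfalso
  obtain ⟨χ, hχ⟩ := exists_top_constituent h.deg H ψ hψ
  set f : G → ℂ := (H13.inflateIrr K β : G → ℂ) * (χ : G → ℂ) with hf
  have hfc : IsCharacter G f := H12.IsCharacter.mul (H12.isCharacter_irr _) (H12.isCharacter_irr χ)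
  have hff : classInner f f = 1 := by
    have hterm : ∀ g : G, f g * conj (f g) =
        if g ∈ H then (d : ℂ) ^ 2 * ((χ : G → ℂ) g * conj ((χ : G → ℂ) g)) else 0 := by
      intro g
      simp only [hf, Pi.mul_apply, H13.inflateIrr_apply, map_mul]
      split_ifs with hg
      · rw [← hβc (g : G ⧸ K) hg]; ring
      · rw [hvan (g : G ⧸ K) hg]; ring
    rw [H12.classInner_def, Finset.sum_congr rfl (fun g _ => hterm g),
      ← Fintype.sum_of_injective _ H.subtype_injective
        (fun y : H => (d : ℂ) ^ 2 * ((χ : G → ℂ) y * conj ((χ : G → ℂ) y))) _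
        (fun g hg => if_neg fun hgH => hg ⟨⟨g, hgH⟩, rfl⟩) (fun y => (if_pos y.2).symm),
      ← Finset.mul_sum]
    have h1 := H12.classInner_irr_self ψ
    rw [← hχ, H12.classInner_def, inv_mul_eq_one₀ (Nat.cast_ne_zero.2 Nat.card_pos.ne')] at h1
    rw [← h1, inv_mul_eq_one₀ (Nat.cast_ne_zero.2 Nat.card_pos.ne'), ← H.card_mul_index, hHi]
    push_cast
    ring
  have hirr := H12.isIrrCharacter_of_classInner_self_eq_one hfc hff
  have hle := h.deg ⟨f, hirr⟩
  have e1 := H12.irr_apply_one ⟨f, hirr⟩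
  have e2 := congrFun hχ 1
  simp only [hf, Pi.mul_apply, H13.inflateIrr_apply, QuotientGroup.mk_one, H12.irr_apply_one,
    OneMemClass.coe_one] at e1 e2
  rw [e2, hψ, ← Nat.cast_mul, Nat.cast_inj] at e1
  simp only at hle
  rw [← e1] at hle
  have := h.pos
  nlinarith

theorem abelian_case (h : Min K b) (hab : ⁅commutator (G ⧸ K), commutator (G ⧸ K)⁆ = ⊥)
    (hnc : ¬ commutator (G ⧸ K) ≤ Subgroup.center (G ⧸ K)) : Good G b := by
  classical
  haveI := Fintype.ofFinite G
  haveI := Fintype.ofFinite (G ⧸ K)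
  set Q := G ⧸ K
  set M := commutator (G ⧸ K) with hM
  have hMn : M.Normal := Subgroup.commutator_normal _ _
  have hMc : ∀ a ∈ M, ∀ c ∈ M, a * c = c * a := fun a ha c hc =>
    commutatorElement_eq_one_iff_mul_comm.1 (Subgroup.mem_bot.1
      (hab ▸ Subgroup.commutator_mem_commutator ha hc))
  have hcommM : ∀ a c : Q, a * c * a⁻¹ * c⁻¹ ∈ M := fun a c => by
    rw [← commutatorElement_def, hM, commutator_def]
    exact Subgroup.commutator_mem_commutator (Subgroup.mem_top a) (Subgroup.mem_top c)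
  -- elements outside the centralizer act without fixed points and surjectively
  have hfpf : ∀ x : Q, (∃ m ∈ M, x * m ≠ m * x) →
      (∀ m ∈ M, x * m = m * x → m = 1) ∧ ∀ u ∈ M, ∃ m ∈ M, x * m * x⁻¹ * m⁻¹ = u := by
    intro x hx
    let D : Subgroup Q :=
      { carrier := {u | ∃ m ∈ M, x * m * x⁻¹ * m⁻¹ = u}
        one_mem' := ⟨1, one_mem _, by group⟩
        mul_mem' := by
          rintro _ _ ⟨a, ha, rfl⟩ ⟨c, hc, rfl⟩
          refine ⟨a * c, mul_mem ha hc, ?_⟩
          have e := hMc a⁻¹ (inv_mem ha) (x * c * x⁻¹) (hMn.conj_mem c hc x)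
          have e2 := hMc c⁻¹ (inv_mem hc) a⁻¹ (inv_mem ha)
          calc x * (a * c) * x⁻¹ * (a * c)⁻¹
              = x * a * x⁻¹ * (x * c * x⁻¹) * (c⁻¹ * a⁻¹) := by group
            _ = x * a * x⁻¹ * (x * c * x⁻¹) * (a⁻¹ * c⁻¹) := by rw [e2]
            _ = x * a * x⁻¹ * ((x * c * x⁻¹) * a⁻¹) * c⁻¹ := by simp only [mul_assoc]
            _ = x * a * x⁻¹ * (a⁻¹ * (x * c * x⁻¹)) * c⁻¹ := by rw [e]
            _ = x * a * x⁻¹ * a⁻¹ * (x * c * x⁻¹ * c⁻¹) := by simp only [mul_assoc]
        inv_mem' := by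
          rintro _ ⟨a, ha, rfl⟩
          refine ⟨a⁻¹, inv_mem ha, ?_⟩
          have e := hMc a ha (x * a⁻¹ * x⁻¹) (hMn.conj_mem _ (inv_mem ha) x)
          rw [inv_inv, ← e]
          group }
    have hDn : D.Normal := ⟨by
      rintro _ ⟨m, hm, rfl⟩ g
      refine ⟨g * m * g⁻¹, hMn.conj_mem m hm g, ?_⟩
      set u := g * x * g⁻¹ * x⁻¹ with hu
      set m' := g * m * g⁻¹ with hm'
      have e := hMc u (hcommM g x) (x * m' * x⁻¹) (hMn.conj_mem _ (hMn.conj_mem m hm g) x)
      calc x * m' * x⁻¹ * m'⁻¹ = (x * m' * x⁻¹ * u) * u⁻¹ * m'⁻¹ := by group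
        _ = (u * (x * m' * x⁻¹)) * u⁻¹ * m'⁻¹ := by rw [e]
        _ = g * (x * m * x⁻¹ * m⁻¹) * g⁻¹ := by rw [hu, hm']; group⟩
    have hDne : D ≠ ⊥ := by
      obtain ⟨m, hm, hne⟩ := hx
      intro e
      apply hne
      have hmem : x * m * x⁻¹ * m⁻¹ ∈ D := ⟨m, hm, rfl⟩
      rw [e] at hmem
      have := Subgroup.mem_bot.1 hmem
      rw [mul_inv_eq_one, mul_inv_eq_iff_eq_mul] at this
      exact this
    have hsurj : ∀ u ∈ M, ∃ m ∈ M, x * m * x⁻¹ * m⁻¹ = u := fun u hu => h.le D hDn hDne hu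
    refine ⟨fun m hm hxm => ?_, hsurj⟩
    have hs : Function.Surjective (fun m : M =>
        (⟨x * m * x⁻¹ * (m : Q)⁻¹, hcommM x m⟩ : M)) := fun u => by
      obtain ⟨m, hm, e⟩ := hsurj u u.2
      exact ⟨⟨m, hm⟩, Subtype.ext e⟩
    have hi := Finite.injective_iff_surjective.2 hs
    exact congrArg Subtype.val (@hi ⟨m, hm⟩ 1 (Subtype.ext (by simp [hxm])))
  obtain ⟨x0, hx0⟩ : ∃ x : Q, ∃ m ∈ M, x * m ≠ m * x := by
    by_contra h0
    push Not at h0
    exact hnc fun m hm => Subgroup.mem_center_iff.2 fun x => h0 x m hm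
  set A := Subgroup.centralizer ({x0} : Set Q) with hA
  have hAM : ∀ a ∈ A, a ∈ M → a = 1 := fun a ha haM =>
    (hfpf x0 hx0).1 a haM (Subgroup.mem_centralizer_singleton_iff.1 ha).symm
  have hdec : ∀ g : Q, ∃ m ∈ M, m * g ∈ A := by
    intro g
    obtain ⟨m, hm, e⟩ := (hfpf x0 hx0).2 _ (hcommM g x0)
    refine ⟨m, hm, Subgroup.mem_centralizer_singleton_iff.2 ?_⟩
    have e2 := hMc m hm (x0 * m * x0⁻¹ * m⁻¹) (hcommM x0 m)
    calc m * g * x0 = m * (g * x0 * g⁻¹ * x0⁻¹) * x0 * g := by group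
      _ = (x0 * m * x0⁻¹ * m⁻¹) * m * x0 * g := by rw [← e, e2]
      _ = x0 * (m * g) := by group
  have hAc : ∀ a ∈ A, ∀ c ∈ A, a * c = c * a := fun a ha c hc => by
    have := hAM _ (mul_mem (mul_mem (mul_mem ha hc) (inv_mem ha)) (inv_mem hc)) (hcommM a c)
    rwa [mul_inv_eq_one, mul_inv_eq_iff_eq_mul] at this
  have hout : ∀ g : Q, g ∉ M → ∃ m ∈ M, g * m ≠ m * g := by
    intro g hg
    by_contra h0
    push Not at h0
    obtain ⟨m, hm, hmA⟩ := hdec g
    have hz : m * g ∈ Subgroup.center Q := by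
      rw [Subgroup.mem_center_iff]
      intro y
      obtain ⟨n, hn, hnA⟩ := hdec y
      have c1 : Commute (n * y) (m * g) := hAc _ hnA _ hmA
      have c2 : Commute n (m * g) := Commute.mul_right (hMc n hn m hm) (h0 n hn).symm
      have := c2.inv_left.mul_left c1
      rw [inv_mul_cancel_left] at this
      exact this.eq
    rw [h.center_eq_bot hnc, Subgroup.mem_bot] at hz
    exact hg (by rw [eq_inv_of_mul_eq_one_right hz]; exact inv_mem hm)
  have hcompl : Subgroup.IsComplement' M A :=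
    Subgroup.isComplement'_of_disjoint_and_mul_eq_univ
      (disjoint_iff_inf_le.2 fun a ha => Subgroup.mem_bot.2 (hAM a ha.2 ha.1))
      (Set.eq_univ_of_forall fun g => by
        obtain ⟨m, hm, hmA⟩ := hdec g
        exact ⟨m⁻¹, inv_mem hm, m * g, hmA, inv_mul_cancel_left m g⟩)
  have hcard : Nat.card M * Nat.card A = Nat.card Q := hcompl.card_mul
  have hMi : M.index = Nat.card A :=
    Nat.eq_of_mul_eq_mul_left Nat.card_pos (M.card_mul_index.trans hcard.symm)
  have hAi : A.index = Nat.card M :=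
    Nat.eq_of_mul_eq_mul_left Nat.card_pos
      (A.card_mul_index.trans (hcard.symm.trans (mul_comm _ _)))
  have hA2 : 2 ≤ M.index := by
    refine (Nat.two_le_iff _).2 ⟨Subgroup.index_ne_zero_of_finite, fun e => ?_⟩
    rw [Subgroup.index_eq_one] at e
    exact hnc fun m hm => Subgroup.mem_center_iff.2 fun x =>
      hMc x (e ▸ Subgroup.mem_top x) m hm
  have hcop : (Nat.card A).Coprime (Nat.card M) := by
    by_contra hncop
    obtain ⟨q, hq, hqA, hqM⟩ := Nat.Prime.not_coprime_iff_dvd.1 hncop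
    haveI : Fact q.Prime := ⟨hq⟩
    obtain ⟨a, ha⟩ := exists_prime_orderOf_dvd_card' (G := A) q hqA
    have ha1 : (a : Q) ∉ M := fun haM => by
      have : a = 1 := Subtype.ext (hAM a a.2 haM)
      rw [this, orderOf_one] at ha
      exact hq.one_lt.ne ha
    have hP : IsPGroup q (Subgroup.zpowers a) :=
      IsPGroup.of_card (n := 1) (by rw [Nat.card_zpowers, ha, pow_one])
    letI : MulAction (Subgroup.zpowers a) M :=
      MulAction.compHom M (((MulAut.conjNormal : Q →* MulAut M).comp A.subtype).comp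
        (Subgroup.zpowers a).subtype)
    have hone : (1 : M) ∈ MulAction.fixedPoints (Subgroup.zpowers a) M := fun s =>
      map_one (MulAut.conjNormal (((s : A) : Q)))
    obtain ⟨m, hm, hm1⟩ := hP.exists_fixed_point_of_prime_dvd_card_of_fixed_point M hqM hone
    apply hm1
    have h1 := congrArg Subtype.val (hm ⟨a, Subgroup.mem_zpowers a⟩)
    change (a : Q) * (m : Q) * (a : Q)⁻¹ = (m : Q) at h1
    exact (Subtype.ext ((hfpf (a : Q) (hout _ ha1)).1 m m.2 (mul_inv_eq_iff_eq_mul.1 h1)).symm)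
  -- the normal part
  haveI := Fintype.ofFinite M
  set N := M.comap (QuotientGroup.mk' K) with hN
  haveI : N.Normal := Subgroup.Normal.comap hMn _
  haveI := Fintype.ofFinite N
  have hNi : N.index = M.index :=
    Subgroup.index_comap_of_surjective _ (QuotientGroup.mk'_surjective K)
  have hNb : N.index ≤ b ^ 2 := by
    obtain ⟨β, hd1, hfaith, hdb⟩ := h.faithful
    rw [hNi]
    refine (index_le_sq M β fun g hg => ?_).trans (Nat.pow_le_pow_left hdb 2)
    have hMne : M ≠ ⊥ := h.ne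
    obtain ⟨n, hn⟩ := Subgroup.ne_bot_iff_exists_ne_one.1 hMne
    refine H13.eq_zero_of_free M β.2 ⟨n, n.2, fun e => hn (Subtype.ext (hfaith _ e))⟩ g
      fun m hm e => (hfpf g (hout g hg)).1 m hm e.symm
  rcases exists_top_or_good h.pos h.deg N hNb with hg | ⟨ψ, hψ⟩
  · exact hg
  obtain ⟨χ, hχ⟩ := exists_top_constituent h.deg N ψ hψ
  have hKN : K ≤ N := fun x hx => by
    show (x : Q) ∈ M
    rw [(QuotientGroup.eq_one_iff x).2 hx]
    exact one_mem _
  let ι : N →* M :=
    ((QuotientGroup.mk' K).comp N.subtype).codRestrict M (fun n => n.2)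
  have hιs : Function.Surjective ι := fun m => by
    obtain ⟨g, hg⟩ := QuotientGroup.mk'_surjective K (m : Q)
    exact ⟨⟨g, by show (g : Q) ∈ M; rw [show (g : Q) = (m : Q) from hg]; exact m.2⟩,
      Subtype.ext hg⟩
  let Λ : Set (M →* ℂˣ) := {μ | ∀ n : N, (ψ : N → ℂ) n * (μ (ι n) : ℂ) = (ψ : N → ℂ) n}
  have hψinv : ∀ (g : G) (n : N) (n' : N), (n' : G) = g * n * g⁻¹ →
      (ψ : N → ℂ) n' = (ψ : N → ℂ) n := fun g n n' e => by
    rw [← hχ]
    simp only
    rw [e]
    exact H12.irr_isClassFunction χ n g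
  let W : Subgroup Q :=
    { carrier := {u | ∃ hu : u ∈ M, ∀ μ ∈ Λ, μ ⟨u, hu⟩ = 1}
      one_mem' := ⟨one_mem _, fun μ _ => map_one μ⟩
      mul_mem' := by
        rintro a c ⟨ha, ha'⟩ ⟨hc, hc'⟩
        exact ⟨mul_mem ha hc, fun μ hμ => by
          rw [show (⟨a * c, mul_mem ha hc⟩ : M) = ⟨a, ha⟩ * ⟨c, hc⟩ from rfl, map_mul, ha' μ hμ,
            hc' μ hμ, one_mul]⟩
      inv_mem' := by
        rintro a ⟨ha, ha'⟩
        exact ⟨inv_mem ha, fun μ hμ => by
          rw [show (⟨a⁻¹, inv_mem ha⟩ : M) = ⟨a, ha⟩⁻¹ from rfl, map_inv, ha' μ hμ, inv_one]⟩ }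
  have hWn : W.Normal := ⟨by
    rintro u ⟨hu, hu'⟩ q
    refine ⟨hMn.conj_mem u hu q, fun μ hμ => ?_⟩
    obtain ⟨g, rfl⟩ := QuotientGroup.mk'_surjective K q
    have hμ' : μ.comp (MulAut.conjNormal (QuotientGroup.mk' K g) : MulAut M).toMonoidHom ∈ Λ := by
      intro n
      have h1 := hμ ⟨g * n * g⁻¹, Subgroup.Normal.conj_mem inferInstance _ n.2 g⟩
      rw [hψinv g n _ rfl] at h1
      have e : ι ⟨g * n * g⁻¹, Subgroup.Normal.conj_mem inferInstance _ n.2 g⟩ =
          (MulAut.conjNormal (QuotientGroup.mk' K g) : MulAut M) (ι n) := by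
        apply Subtype.ext
        rw [MulAut.conjNormal_apply]
        show QuotientGroup.mk' K (g * n * g⁻¹) =
          QuotientGroup.mk' K g * QuotientGroup.mk' K n * (QuotientGroup.mk' K g)⁻¹
        rw [map_mul, map_mul, map_inv]
      rw [e] at h1
      exact h1
    have h2 := hu' _ hμ'
    rw [MonoidHom.comp_apply, MulEquiv.coe_toMonoidHom] at h2
    rw [show (⟨QuotientGroup.mk' K g * u * (QuotientGroup.mk' K g)⁻¹,
      hMn.conj_mem u hu (QuotientGroup.mk' K g)⟩ : M) = (MulAut.conjNormal (QuotientGroup.mk' K g) : MulAut M) ⟨u, hu⟩ from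
        Subtype.ext (by rw [MulAut.conjNormal_apply])]
    exact h2⟩
  have hMdvd : Nat.card M ∣ b ^ 2 := by
    by_cases hW : W = ⊥
    · have hrel : (K.subgroupOf N).index = Nat.card M := by
        have h1 := Subgroup.relIndex_mul_index hKN
        rw [hNi, hMi, Subgroup.index_eq_card K, ← hcard] at h1
        exact Nat.eq_of_mul_eq_mul_right Nat.card_pos h1
      rw [← hrel, ← hψ]
      refine index_dvd_sq (K.subgroupOf N) ψ fun n hn => ?_
      have hne : ι n ≠ 1 := fun e => hn (Subgroup.mem_subgroupOf.2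
        ((QuotientGroup.eq_one_iff (n : G)).1 (congrArg Subtype.val e)))
      obtain ⟨μ, hμ, hμn⟩ : ∃ μ ∈ Λ, μ (ι n) ≠ 1 := by
        by_contra h0
        push Not at h0
        exact hne (Subtype.ext (Subgroup.mem_bot.1 (hW ▸ (⟨(ι n).2, h0⟩ : (ι n : Q) ∈ W))))
      have h2 : (ψ : N → ℂ) n * ((μ (ι n) : ℂ) - 1) = 0 := by linear_combination hμ n
      exact (mul_eq_zero.1 h2).resolve_right (sub_ne_zero.2 fun e => hμn (Units.ext e))
    · exfalso
      have hΛ : ∀ μ ∈ Λ, ∀ m : M, μ m = 1 := fun μ hμ m => by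
        obtain ⟨hu, hu'⟩ := h.le W hWn hW m.2
        exact hu' μ hμ
      letI : CommGroup M :=
        { (inferInstance : Group M) with mul_comm := fun a c => Subtype.ext (hMc a a.2 c c.2) }
      obtain ⟨u, hu⟩ := Subgroup.ne_bot_iff_exists_ne_one.1 h.ne
      haveI : HasEnoughRootsOfUnity ℂ (Monoid.exponent M) := by
        haveI : NeZero (Monoid.exponent M) :=
          ⟨Monoid.exponent_ne_zero_of_finite⟩
        infer_instance
      obtain ⟨lam, hlam⟩ := CommGroup.exists_apply_ne_one_of_hasEnoughRootsOfUnity M ℂ hu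
      have hnorm : ∀ m : M, (lam m : ℂ) * conj (lam m : ℂ) = 1 := by
        intro m
        have h3 : (lam m : ℂ) ^ orderOf m = 1 := by
          rw [← Units.val_pow_eq_pow_val, ← map_pow, pow_orderOf_eq_one, map_one, Units.val_one]
        rw [Complex.mul_conj, Complex.normSq_eq_norm_sq,
          H12.norm_eq_one_of_pow_eq_one (orderOf_pos m).ne' h3]
        norm_num
      set θ : N → ℂ := (ψ : N → ℂ) * fun n => (lam.comp ι n : ℂ) with hθ
      have hθi : IsIrrCharacter N θ := by
        refine H12.isIrrCharacter_of_classInner_self_eq_one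
          (H12.IsCharacter.mul (H12.isCharacter_irr ψ) (H12.isCharacter_monoidHom (lam.comp ι))) ?_
        rw [← H12.classInner_irr_self ψ, H12.classInner_def, H12.classInner_def]
        congr 1
        refine Finset.sum_congr rfl fun n _ => ?_
        simp only [hθ, Pi.mul_apply, MonoidHom.comp_apply, map_mul]
        linear_combination (ψ : N → ℂ) n * conj ((ψ : N → ℂ) n) * hnorm (ι n)
      have hin : H13.inertia N θ ≤ N := by
        intro g hg
        by_contra hgN
        have hgM : (g : Q) ∉ M := hgN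
        have hmem : ((lam.comp (MulAut.conjNormal (g : Q) : MulAut M).toMonoidHom) * lam⁻¹) ∈ Λ := by
          intro n
          have h1 := congrFun ((H13.mem_inertia N).1 hg) n
          rw [H13.twist_apply] at h1
          simp only [hθ, Pi.mul_apply, MonoidHom.comp_apply] at h1
          rw [hψinv g n _ rfl] at h1
          have e : ι ⟨g * n * g⁻¹, Subgroup.Normal.conj_mem inferInstance _ n.2 g⟩ =
              (MulAut.conjNormal (g : Q) : MulAut M) (ι n) :=
            Subtype.ext (by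
              rw [MulAut.conjNormal_apply]
              show QuotientGroup.mk' K (g * n * g⁻¹) =
                QuotientGroup.mk' K g * QuotientGroup.mk' K n * (QuotientGroup.mk' K g)⁻¹
              rw [map_mul, map_mul, map_inv])
          rw [e] at h1
          simp only [MonoidHom.mul_apply, MonoidHom.inv_apply, MonoidHom.comp_apply,
            MulEquiv.coe_toMonoidHom, Units.val_mul, Units.val_inv_eq_inv_val]
          rw [← mul_assoc, h1, mul_assoc, mul_inv_cancel₀ (Units.ne_zero _), mul_one]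
        obtain ⟨m, hm, e⟩ := (hfpf _ (hout _ hgM)).2 (u : Q) u.2
        apply hlam
        have h1 := hΛ _ hmem ⟨m, hm⟩
        simp only [MonoidHom.mul_apply, MonoidHom.inv_apply, MonoidHom.comp_apply,
          MulEquiv.coe_toMonoidHom] at h1
        rw [← map_inv, ← map_mul] at h1
        convert h1 using 2
        apply Subtype.ext
        simp [MulAut.conjNormal_apply, ← e]
      have hirr := H13.isIrrCharacter_indFun_of_inertia N hθi hin
      have hle := h.deg ⟨_, hirr⟩
      have e1 := H12.irr_apply_one ⟨_, hirr⟩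
      simp only [H13.indFun_apply_one, hθ, Pi.mul_apply, map_one, Units.val_one, mul_one,
        H12.irr_apply_one, hψ] at e1
      rw [← Nat.cast_mul, Nat.cast_inj] at e1
      simp only at hle
      rw [← e1, hNi] at hle
      have := h.pos
      nlinarith
  -- the complement
  have hb2 : 0 < b ^ 2 := by have := h.pos; positivity
  set H := A.comap (QuotientGroup.mk' K) with hH
  haveI := Fintype.ofFinite H
  have hHi : H.index = Nat.card M := by
    rw [hH, Subgroup.index_comap_of_surjective _ (QuotientGroup.mk'_surjective K), hAi]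
  rcases exists_top_or_good h.pos h.deg H (by rw [hHi]; exact Nat.le_of_dvd hb2 hMdvd) with
    hg | ⟨φ, hφ⟩
  · exact hg
  have hKH : K ≤ H := fun x hx => by
    show (x : Q) ∈ A
    rw [(QuotientGroup.eq_one_iff x).2 hx]
    exact one_mem _
  have hAdvd : Nat.card A ∣ b ^ 2 := by
    have hrel : (K.subgroupOf H).index = Nat.card A := by
      have h1 := Subgroup.relIndex_mul_index hKH
      rw [hHi, Subgroup.index_eq_card K, ← hcard, mul_comm (Nat.card M)] at h1
      exact Nat.eq_of_mul_eq_mul_right Nat.card_pos h1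
    rw [← hrel, ← hφ]
    refine index_dvd_sq (K.subgroupOf H) φ fun y hy =>
      vanish_off_core H φ h.deg hφ y fun hcore => ?_
    set C := H.normalCore.map (QuotientGroup.mk' K) with hC
    have hCn : C.Normal := Subgroup.Normal.map inferInstance _ (QuotientGroup.mk'_surjective K)
    have hCA : C ≤ A := by
      rintro _ ⟨z, hz, rfl⟩
      exact Subgroup.normalCore_le H hz
    have hCne : C ≠ ⊥ := fun e => hy (Subgroup.mem_subgroupOf.2 ((QuotientGroup.eq_one_iff _).1
      (Subgroup.mem_bot.1 (e ▸ ⟨(y : G), hcore, rfl⟩ : (QuotientGroup.mk' K (y : G)) ∈ (⊥ : Subgroup Q)))))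
    exact h.ne (le_bot_iff.1 fun m hm => Subgroup.mem_bot.2 (hAM m (hCA (h.le C hCn hCne hm)) hm))
  refine good_of_index h.pos K ?_ fun ψ => ?_
  · rw [Subgroup.index_eq_card K, ← hcard]
    exact Nat.le_of_dvd hb2 (hcop.symm.mul_dvd_of_dvd_of_dvd hMdvd hAdvd)
  · have := two_mul_degree_le K h.ne h.deg ψ
    have := H12.irr_degree_pos ψ
    omega

theorem exists_small_class (h : Min K b) :
    ∃ x : G ⧸ K, x ≠ 1 ∧ (Subgroup.centralizer ({x} : Set (G ⧸ K))).index ≤ b ^ 2 := by
  classical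
  haveI := Fintype.ofFinite (G ⧸ K)
  by_contra h0
  push Not at h0
  set k := Fintype.card (IrrCharacter (G ⧸ K))
  have hq : 1 < Nat.card (G ⧸ K) := by
    by_contra hle
    haveI : Subsingleton (G ⧸ K) := (Finite.card_le_one_iff_subsingleton.1 (by omega))
    exact h.ne (Subgroup.eq_bot_of_subsingleton _)
  have h1 : Nat.card (G ⧸ K) ≤ 1 + (k - 1) * b ^ 2 := by
    rw [← H12.sum_degree_sq_nat,
      ← Finset.add_sum_erase _ _ (Finset.mem_univ (H12.oneIrr (G ⧸ K)))]
    refine Nat.add_le_add (le_of_eq ?_) (le_trans (Finset.sum_le_card_nsmul _ _ (b ^ 2) fun χ _ =>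
      Nat.pow_le_pow_left ((degree_inflate K χ) ▸ h.deg (H13.inflateIrr K χ)) 2) (le_of_eq ?_))
    · have : ((H12.oneIrr (G ⧸ K) : G ⧸ K → ℂ)) 1 = 1 := H12.oneIrr_apply (G ⧸ K) 1
      rw [H12.irr_apply_one, Nat.cast_eq_one] at this
      rw [this, one_pow]
    · rw [Finset.card_erase_of_mem (Finset.mem_univ _), Finset.card_univ, smul_eq_mul]
  have h2 : ∑ g : G ⧸ K, Nat.card (Subgroup.centralizer ({g} : Set (G ⧸ K))) =
      k * Nat.card (G ⧸ K) := by
    have e : (∑ g : G ⧸ K, (Nat.card (Subgroup.centralizer ({g} : Set (G ⧸ K))) : ℝ)) =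
        (k : ℝ) * Nat.card (G ⧸ K) := by
      simp only [← H13.sum_normSq_irr]
      rw [Finset.sum_comm]
      have e1 : ∀ χ : IrrCharacter (G ⧸ K),
          ∑ g, Complex.normSq ((χ : G ⧸ K → ℂ) g) = (Nat.card (G ⧸ K) : ℝ) := by
        intro χ
        have h1 := H12.classInner_irr_self χ
        rw [H12.classInner_def, inv_mul_eq_one₀ (Nat.cast_ne_zero.2 Nat.card_pos.ne')] at h1
        simp only [Complex.mul_conj] at h1
        exact_mod_cast h1.symm
      rw [Finset.sum_congr rfl fun χ _ => e1 χ, Finset.sum_const, Finset.card_univ, nsmul_eq_mul]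
    exact_mod_cast e
  rw [← Finset.add_sum_erase _ _ (Finset.mem_univ (1 : G ⧸ K))] at h2
  have h3 : (∑ g ∈ Finset.univ.erase (1 : G ⧸ K),
      Nat.card (Subgroup.centralizer ({g} : Set (G ⧸ K)))) * (b ^ 2 + 1) ≤
      (Nat.card (G ⧸ K) - 1) * Nat.card (G ⧸ K) := by
    rw [Finset.sum_mul]
    refine (Finset.sum_le_card_nsmul _ _ (Nat.card (G ⧸ K)) fun g hg => ?_).trans (le_of_eq ?_)
    · rw [← (Subgroup.centralizer ({g} : Set (G ⧸ K))).card_mul_index]
      exact Nat.mul_le_mul_left _ (h0 g (Finset.ne_of_mem_erase hg))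
    · rw [Finset.card_erase_of_mem (Finset.mem_univ _), Finset.card_univ, smul_eq_mul,
        Nat.card_eq_fintype_card]
  have h4 : Nat.card (Subgroup.centralizer ({1} : Set (G ⧸ K))) = Nat.card (G ⧸ K) := by
    rw [show Subgroup.centralizer ({1} : Set (G ⧸ K)) = ⊤ from
      eq_top_iff.2 fun g _ => Subgroup.mem_centralizer_singleton_iff.2 (by simp), Subgroup.card_top]
  have hk : 1 ≤ k := Fintype.card_pos_iff.2 ⟨H12.oneIrr _⟩
  generalize (∑ g ∈ Finset.univ.erase (1 : G ⧸ K),
    Nat.card (Subgroup.centralizer ({g} : Set (G ⧸ K)))) = T at h2 h3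
  rw [h4] at h2
  obtain ⟨k', hk'⟩ : ∃ k', k = k' + 1 := ⟨k - 1, by omega⟩
  rw [hk'] at h1 h2
  simp only [Nat.add_sub_cancel] at h1
  have hT : T = k' * Nat.card (G ⧸ K) := by rw [add_mul, one_mul] at h2; omega
  rw [hT] at h3
  have h5 : k' * (b ^ 2 + 1) ≤ Nat.card (G ⧸ K) - 1 := by
    refine Nat.le_of_mul_le_mul_right ?_ (show 0 < Nat.card (G ⧸ K) by omega)
    calc k' * (b ^ 2 + 1) * Nat.card (G ⧸ K) = k' * Nat.card (G ⧸ K) * (b ^ 2 + 1) := by ring
      _ ≤ _ := h3
  rw [mul_add, mul_one] at h5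
  rcases Nat.eq_zero_or_pos k' with h6 | h6
  · rw [h6] at h1; omega
  · omega

theorem perfect_case (h : Min K b) (hab : ⁅commutator (G ⧸ K), commutator (G ⧸ K)⁆ ≠ ⊥) :
    Good G b := by
  classical
  haveI := Fintype.ofFinite G
  haveI := Fintype.ofFinite (G ⧸ K)
  set M := commutator (G ⧸ K) with hM
  haveI hMn : M.Normal := Subgroup.commutator_normal _ _
  have hperf : ⁅M, M⁆ = M :=
    le_antisymm (Subgroup.commutator_le_right M M) (h.le _ (Subgroup.commutator_normal _ _) hab)
  -- the largest degree is at least five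
  have hb5 : 5 ≤ b := by
    have hcM : commutator M = ⊤ := by
      apply Subgroup.map_injective M.subtype_injective
      rw [commutator_def, Subgroup.map_commutator, ← MonoidHom.range_eq_map,
        Subgroup.range_subtype, hperf]
    haveI : Nontrivial M := (Subgroup.nontrivial_iff_ne_bot M).2 h.ne
    obtain ⟨R, ⟨hRn, hRtop⟩, hRmax⟩ := ({R : Subgroup M | R.Normal ∧ R ≠ ⊤}).toFinite.exists_maximal
      ⟨⊥, inferInstance, bot_ne_top⟩
    haveI : R.Normal := hRn
    haveI : Nontrivial (M ⧸ R) := QuotientGroup.nontrivial_iff.2 hRtop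
    haveI : IsSimpleGroup (M ⧸ R) := ⟨fun L hL => by
      by_cases hLt : L.comap (QuotientGroup.mk' R) = ⊤
      · right
        rw [← Subgroup.map_comap_eq_self_of_surjective (QuotientGroup.mk'_surjective R) L, hLt,
          Subgroup.map_top_of_surjective _ (QuotientGroup.mk'_surjective R)]
      · left
        have hle : L.comap (QuotientGroup.mk' R) ≤ R := hRmax ⟨hL.comap _, hLt⟩ (fun x hx => by
          show (x : M ⧸ R) ∈ L
          rw [(QuotientGroup.eq_one_iff x).2 hx]
          exact one_mem _)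
        refine (Subgroup.eq_bot_iff_forall L).2 fun q hq => ?_
        obtain ⟨x, rfl⟩ := QuotientGroup.mk'_surjective R q
        exact (QuotientGroup.eq_one_iff x).2 (hle hq)⟩
    have hna : ¬ IsMulCommutative (M ⧸ R) := by
      intro hc
      apply hRtop
      rw [eq_top_iff, ← hcM, commutator_def, Subgroup.commutator_le]
      intro x _ y _
      apply (QuotientGroup.eq_one_iff _).1
      show (QuotientGroup.mk' R) ⁅x, y⁆ = 1
      rw [map_commutatorElement, commutatorElement_eq_one_iff_mul_comm]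
      exact hc.is_comm.comm _ _
    haveI := Fintype.ofFinite (M ⧸ R)
    obtain ⟨χ, hχ⟩ := exists_degree_five hna
    haveI := Fintype.ofFinite M
    obtain ⟨ξ, hξ⟩ := exists_above M (H13.inflateIrr R χ)
    have h1 := degree_le_above M hξ
    rw [degree_inflate] at h1
    have h2 := h.deg (H13.inflateIrr K ξ)
    rw [degree_inflate] at h2
    omega
  obtain ⟨x, hx1, hxi⟩ := h.exists_small_class
  set A := Subgroup.centralizer ({x} : Set (G ⧸ K)) with hA
  set H := A.comap (QuotientGroup.mk' K) with hH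
  haveI := Fintype.ofFinite H
  have hHi : H.index ≤ b ^ 2 := by
    rw [hH, Subgroup.index_comap_of_surjective _ (QuotientGroup.mk'_surjective K)]
    exact hxi
  rcases exists_top_or_good h.pos h.deg H hHi with hg | ⟨φ, hφ⟩
  · exact hg
  have hMA : ¬ M ≤ A := by
    intro hle
    have hxC : x ∈ Subgroup.centralizer (M : Set (G ⧸ K)) :=
      Subgroup.mem_centralizer_iff.2 fun m hm => Subgroup.mem_centralizer_singleton_iff.1 (hle hm)
    have hCbot : Subgroup.centralizer (M : Set (G ⧸ K)) = ⊥ := by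
      by_contra hne
      exact hab (Subgroup.commutator_eq_bot_iff_le_centralizer.2 (h.le _ inferInstance hne))
    exact hx1 (Subgroup.mem_bot.1 (hCbot ▸ hxC))
  have hKH : K ≤ H := fun z hz => by
    show (z : G ⧸ K) ∈ A
    rw [(QuotientGroup.eq_one_iff z).2 hz]
    exact one_mem _
  have hrel : (K.subgroupOf H).index ≤ b ^ 2 := by
    rw [← hφ]
    refine index_le_sq (K.subgroupOf H) φ fun y hy =>
      vanish_off_core H φ h.deg hφ y fun hcore => hMA ?_
    have hCn : (H.normalCore.map (QuotientGroup.mk' K)).Normal :=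
      Subgroup.Normal.map inferInstance _ (QuotientGroup.mk'_surjective K)
    have hCA : H.normalCore.map (QuotientGroup.mk' K) ≤ A := by
      rintro _ ⟨z, hz, rfl⟩
      exact Subgroup.normalCore_le H hz
    refine (h.le _ hCn fun e => hy (Subgroup.mem_subgroupOf.2 ((QuotientGroup.eq_one_iff _).1
      (Subgroup.mem_bot.1 ?_)))).trans hCA
    rw [← e]
    exact ⟨(y : G), hcore, rfl⟩
  have hKi : K.index ≤ b ^ 2 * b ^ 2 := by
    rw [← Subgroup.relIndex_mul_index hKH]
    exact Nat.mul_le_mul hrel hHi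
  refine ⟨K, b / 2, by omega, fun ψ => by have := two_mul_degree_le K h.ne h.deg ψ; omega, ?_⟩
  refine (Nat.mul_le_mul_right _ hKi).trans ?_
  have key : b ^ 2 * (b / 2).factorial ≤ b.factorial := by
    obtain ⟨c, rfl⟩ : ∃ c, b = c + 2 := ⟨b - 2, by omega⟩
    rw [Nat.factorial_succ, Nat.factorial_succ]
    have h3 : ((c + 2) / 2 + 1) * ((c + 2) / 2).factorial ≤ c.factorial := by
      rw [← Nat.factorial_succ]
      exact Nat.factorial_le (by omega)
    have h4 : 3 ≤ (c + 2) / 2 + 1 := by omega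
    have h6 : 3 * ((c + 2) / 2).factorial ≤ c.factorial :=
      (Nat.mul_le_mul_right _ h4).trans h3
    calc (c + 2) ^ 2 * ((c + 2) / 2).factorial
        = (c + 2) * ((c + 2) * ((c + 2) / 2).factorial) := by ring
      _ ≤ (c + 2) * ((c + 1) * (3 * ((c + 2) / 2).factorial)) := by
          refine Nat.mul_le_mul_left _ ?_
          rw [← mul_assoc]
          exact Nat.mul_le_mul_right _ (by omega)
      _ ≤ (c + 1 + 1) * ((c + 1) * c.factorial) :=
          Nat.mul_le_mul_left _ (Nat.mul_le_mul_left _ h6)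
  calc b ^ 2 * b ^ 2 * (b / 2).factorial ^ 2 = (b ^ 2 * (b / 2).factorial) ^ 2 := by ring
    _ ≤ b.factorial ^ 2 := Nat.pow_le_pow_left key 2

end Min

end Quotient

end H28.ChrAb
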