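import Cfsg.Agent.H28.ChrAbelian.Cases

/-!
An abelian subgroup of index at most the square of the factorial of the largest degree.
-/

set_option autoImplicit false
set_option linter.unusedSectionVars false

open Cfsg

namespace H28.ChrAb

universe u

/-- A non-abelian group has a subgroup of small index with smaller degrees. -/
theorem good_of_nonabelian {G : Type u} [Group G] [Finite G] {b : ℕ}
    (hb : ∀ χ : IrrCharacter G, H12.degree (χ : G → ℂ) ≤ b) (hb0 : 0 < b)
    (hna : commutator G ≠ ⊥) : Good G b := by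
  obtain ⟨K, ⟨hKn, hK⟩, hKmax⟩ :=
    ({K : Subgroup G | K.Normal ∧ ¬ commutator G ≤ K}).toFinite.exists_maximal
      ⟨⊥, inferInstance, fun h => hna (le_bot_iff.1 h)⟩
  haveI : K.Normal := hKn
  have hsurj := QuotientGroup.mk'_surjective K
  have hcomm : commutator (G ⧸ K) = (commutator G).map (QuotientGroup.mk' K) := by
    rw [commutator_def, commutator_def, Subgroup.map_commutator,
      Subgroup.map_top_of_surjective _ hsurj]
  have h : Min K b :=
    { pos := hb0
      deg := hb
      ne := fun e => hK fun g hg => (QuotientGroup.eq_one_iff g).1 (Subgroup.mem_bot.1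
        (e ▸ hcomm ▸ Subgroup.mem_map_of_mem (QuotientGroup.mk' K) hg))
      le := fun N hN hne => by
        by_contra hle
        have hc : ¬ commutator G ≤ N.comap (QuotientGroup.mk' K) := fun h => hle (by
          rw [hcomm, Subgroup.map_le_iff_le_comap]
          exact h)
        have hKN : K ≤ N.comap (QuotientGroup.mk' K) := fun x hx => by
          show (x : G ⧸ K) ∈ N
          rw [(QuotientGroup.eq_one_iff x).2 hx]
          exact one_mem _
        have hle' := hKmax ⟨hN.comap _, hc⟩ hKN
        refine hne ((Subgroup.eq_bot_iff_forall N).2 fun q hq => ?_)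
        obtain ⟨g, rfl⟩ := hsurj q
        exact (QuotientGroup.eq_one_iff g).2 (hle' hq) }
  by_cases hc : commutator (G ⧸ K) ≤ Subgroup.center (G ⧸ K)
  · exact h.central_case hc
  by_cases hab : ⁅commutator (G ⧸ K), commutator (G ⧸ K)⁆ = ⊥
  · exact h.abelian_case hab hc
  · exact h.perfect_case hab

theorem exists_abelian : ∀ (b : ℕ) (G : Type u) [Group G] [Finite G],
    (∀ χ : IrrCharacter G, H12.degree (χ : G → ℂ) ≤ b) →
      ∃ A : Subgroup G, (∀ x ∈ A, ∀ y ∈ A, x * y = y * x) ∧ A.index ≤ b.factorial ^ 2 := by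
  intro b
  induction b using Nat.strong_induction_on with
  | _ b ih =>
    intro G _ _ hb
    haveI := Fintype.ofFinite G
    have hb0 : 0 < b := lt_of_lt_of_le (H12.irr_degree_pos (H12.oneIrr G)) (hb _)
    by_cases hna : commutator G = ⊥
    · refine ⟨⊤, fun x _ y _ => commutatorElement_eq_one_iff_mul_comm.1 (Subgroup.mem_bot.1 ?_),
        by rw [Subgroup.index_top]; exact Nat.one_le_pow _ _ b.factorial_pos⟩
      rw [← hna, commutator_def]
      exact Subgroup.commutator_mem_commutator (Subgroup.mem_top x) (Subgroup.mem_top y)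
    obtain ⟨H, m, hm, hd, hi⟩ := good_of_nonabelian hb hb0 hna
    obtain ⟨A, hA, hAi⟩ := ih m hm H hd
    refine ⟨A.map H.subtype, ?_, ?_⟩
    · rintro _ ⟨x, hx, rfl⟩ _ ⟨y, hy, rfl⟩
      rw [← map_mul, hA x hx y hy, map_mul]
    · rw [Subgroup.index_map_subtype]
      exact le_trans (le_trans (le_of_eq (mul_comm _ _)) (Nat.mul_le_mul_left _ hAi)) hi

end H28.ChrAb
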